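import Cfsg.Agent.FusionEssential.AbelianRankTwo
import Cfsg.Agent.FusionEssential.PPowHom
import Cfsg.Agent.FusionTwoEssentials.Natural

/-!
# Two-generator groups with an irreducible group of automorphisms

The data: a finite `p`-group `P` with `|P : Φ(P)| = p²`, a group `A` of automorphisms leaving no
line of `P/Φ(P)` invariant, and `u ∈ A` acting as a transvection with inner `p`-th power.
For `p ≥ 5` the abelianization of `P` is elementary.
-/

set_option autoImplicit false
set_option linter.style.haveILetI false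

namespace CfsgLib.FusionTwoGenEssential

open scoped commutatorElement

/-- The third, fourth and fifth terms of the lower central series. -/
abbrev g3 (P : Type*) [Group P] : Subgroup P := ⁅commutator P, (⊤ : Subgroup P)⁆

@[inherit_doc g3]
abbrev g4 (P : Type*) [Group P] : Subgroup P := ⁅g3 P, (⊤ : Subgroup P)⁆

@[inherit_doc g3]
abbrev g5 (P : Type*) [Group P] : Subgroup P := ⁅g4 P, (⊤ : Subgroup P)⁆

variable {P : Type*} [Group P]

theorem char_mem {H : Subgroup P} [hH : H.Characteristic] (α : MulAut P) {x : P} (hx : x ∈ H) :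
    α x ∈ H := by
  have h := (Subgroup.characteristic_iff_le_comap.1 hH α) hx
  exact h

theorem comm_pow_left {x y : P} (h : Commute x ⁅x, y⁆) (k : ℕ) : ⁅x ^ k, y⁆ = ⁅x, y⁆ ^ k := by
  induction k with
  | zero => simp
  | succ k ih =>
    rw [pow_succ', FusionTwoEssentials.comm_mul_left, ih, (h.pow_right k).eq, mul_inv_cancel_right,
      ← pow_succ]

/-- A power of one factor of a commutator, when the next commutator is central. -/
theorem comm_pow_class_three {a b c d : P} (hc : ⁅a, b⁆ = c) (hd : ⁅a, c⁆ = d)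
    (hda : Commute d a) (hdc : Commute d c) (k : ℕ) :
    ⁅a ^ k, b⁆ = c ^ k * d ^ k.choose 2 := by
  have h1 : ∀ k : ℕ, a ^ k * b * (a ^ k)⁻¹ = c ^ k * d ^ k.choose 2 * b := by
    intro k
    induction k with
    | zero => simp
    | succ k ih =>
      have ha : a * b * a⁻¹ = c * b := by
        rw [← hc, FusionTwoEssentials.conj_eq_comm_mul]
      have hca : a * c * a⁻¹ = d * c := by
        rw [← hd, FusionTwoEssentials.conj_eq_comm_mul]
      calc a ^ (k + 1) * b * (a ^ (k + 1))⁻¹
          = a * (a ^ k * b * (a ^ k)⁻¹) * a⁻¹ := by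
            rw [pow_succ', mul_inv_rev]; simp only [mul_assoc]
        _ = (a * c * a⁻¹) ^ k * (a * d * a⁻¹) ^ k.choose 2 * (a * b * a⁻¹) := by
            rw [ih, conj_pow, conj_pow]; simp only [mul_assoc, inv_mul_cancel_left]
        _ = (d * c) ^ k * d ^ k.choose 2 * (c * b) := by
            rw [hca, hda.eq.symm, mul_inv_cancel_right, ha]
        _ = _ := by
            rw [hdc.mul_pow, show (k + 1).choose 2 = k + k.choose 2 by
                rw [Nat.choose_succ_succ', Nat.choose_one_right],
              (hdc.pow_pow k k).eq, pow_add, pow_add, pow_one]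
            simp only [mul_assoc]
            rw [(hdc.pow_left (k.choose 2)).left_comm, (hdc.pow_left k).left_comm]
  rw [commutatorElement_def, h1, mul_inv_cancel_right]

theorem eq_bot_of_le_commutator [Group.IsNilpotent P] {H : Subgroup P}
    (h : H ≤ ⁅H, (⊤ : Subgroup P)⁆) : H = ⊥ := by
  obtain ⟨n, hn⟩ := Subgroup.nilpotent_iff_lowerCentralSeries.1 ‹Group.IsNilpotent P›
  have hle : ∀ m, H ≤ (⊤ : Subgroup P).lowerCentralSeries m := by
    intro m
    induction m with
    | zero => simp
    | succ m ih =>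
      rw [Subgroup.lowerCentralSeries_succ]
      exact h.trans (Subgroup.commutator_mono ih le_rfl)
  exact le_bot_iff.1 (hn ▸ hle n)

/-- The hypotheses. -/
structure Irred (p : ℕ) (A : Subgroup (MulAut P)) (u : MulAut P) (a b : P) : Prop where
  isP : IsPGroup p P
  index : (frattini P).index = p ^ 2
  irred : ∀ K : Subgroup P, frattini P ≤ K → (∀ α ∈ A, ∀ x ∈ K, α x ∈ K) →
    K = frattini P ∨ K = ⊤
  mem : u ∈ A
  inner : ∃ g, u ^ p = MulAut.conj g
  hb : b ∉ frattini P
  fixb : b⁻¹ * u b ∈ frattini P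
  movea : (a * b)⁻¹ * u a ∈ frattini P

variable [Finite P] {p : ℕ} [hp : Fact p.Prime] {A : Subgroup (MulAut P)} {u : MulAut P} {a b : P}

theorem Irred.closure_eq (h : Irred p A u a b) : Subgroup.closure ({a, b} : Set P) = ⊤ := by
  have hfr : ∀ x : P, x ^ p ∈ frattini P := Solvable.pow_mem_frattini h.isP
  set L := frattini P ⊔ Subgroup.zpowers b with hL
  have h1 : (frattini P).relIndex L = p :=
    FusionTwoEssentials.relIndex_sup_zpowers (hfr b) h.hb
  have haL : a ∉ L := by
    intro ha
    set π := QuotientGroup.mk' (frattini P) with hπ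
    obtain ⟨m, hm⟩ : ∃ m : ℤ, π a = π b ^ m := by
      have h2 : L.map π ≤ Subgroup.zpowers (π b) := by
        rw [hL, Subgroup.map_sup, MonoidHom.map_zpowers,
          (Subgroup.map_eq_bot_iff _).2 (QuotientGroup.ker_mk' _).ge, bot_sup_eq]
      obtain ⟨m, hm⟩ := h2 (Subgroup.mem_map_of_mem π ha)
      exact ⟨m, hm.symm⟩
    have hb' : π (u b) = π b := (QuotientGroup.eq.2 h.fixb).symm
    have ha' : π (u a) = π a * π b := (QuotientGroup.eq.2 h.movea).symm.trans (map_mul π a b)
    have h2 : π (u a) = π (u b) ^ m := by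
      have e : a⁻¹ * b ^ m ∈ frattini P :=
        QuotientGroup.eq.1 (hm.trans (map_zpow π b m).symm)
      have e2 := QuotientGroup.eq.2 (show (u a)⁻¹ * (u b) ^ m ∈ frattini P by
        simpa using char_mem u e)
      exact e2.trans (map_zpow π (u b) m)
    rw [ha', hb', hm] at h2
    exact h.hb ((QuotientGroup.eq_one_iff b).1 (mul_eq_left.1 h2))
  refine Solvable.eq_top_of_sup_frattini ?_
  set T := Subgroup.closure ({a, b} : Set P) ⊔ frattini P with hT
  have hLT : L < T := lt_of_le_of_ne
    (sup_le le_sup_right (Subgroup.zpowers_le.2 (Subgroup.mem_sup_left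
      (Subgroup.subset_closure (by simp)))))
    fun e => haL (e.symm ▸ Subgroup.mem_sup_left (Subgroup.subset_closure (by simp)))
  have h2 := FusionTwoEssentials.le_relIndex_of_lt h.isP hLT.not_ge
  have h3 := Subgroup.relIndex_mul_relIndex _ _ _ (le_sup_left : frattini P ≤ L) hLT.le
  have h4 := Subgroup.relIndex_mul_index (le_sup_right : frattini P ≤ T)
  rw [← h3, h1, h.index] at h4
  refine Subgroup.index_eq_one.1 ?_
  have hpos := hp.out.pos
  have h5 : p * p * T.index ≤ p ^ 2 := by
    rw [← h4]
    exact Nat.mul_le_mul_right _ (Nat.mul_le_mul_left p h2)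
  have h6 : T.index ≠ 0 := Subgroup.index_ne_zero_of_finite
  rw [sq] at h5
  have := Nat.le_of_mul_le_mul_left (show p * p * T.index ≤ p * p * 1 by simpa using h5)
    (Nat.mul_pos hpos hpos)
  omega

theorem Irred.periodic (h : Irred p A u a b) : ∃ k, u ^ p ^ k = 1 := by
  obtain ⟨g, hg⟩ := h.inner
  obtain ⟨k, hk⟩ := h.isP g
  exact ⟨k + 1, by rw [pow_succ', pow_mul, hg, ← map_pow, hk, map_one]⟩

/-- The abelianization is elementary: `Φ(P) = P'`. -/
theorem Irred.frattini_eq (h : Irred p A u a b) (hp5 : 5 ≤ p) : frattini P = commutator P := by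
  classical
  let π : P →* Abelianization P := Abelianization.of
  have hπ : Function.Surjective π := QuotientGroup.mk_surjective
  have hgen : Subgroup.closure ({a, b} : Set P) = ⊤ := h.closure_eq
  haveI : Finite (Abelianization P) := Finite.of_surjective π hπ
  suffices hel : ∀ x : P, π x ^ p = 1 by
    refine le_antisymm (Solvable.frattini_le_of_elementary (p := p) le_rfl fun x => ?_)
      (Solvable.commutator_le_frattini h.isP)
    exact (QuotientGroup.eq_one_iff _).1 ((map_pow π x p).trans (hel x))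
  -- `x ↦ x ^ p` modulo `p²`-th powers
  set K := (FusionEssential.powRange (H := Abelianization P) p 2).comap
    ((powMonoidHom p).comp π) with hKdef
  have hK : ∀ x, x ∈ K ↔ ∃ y, y ^ (p ^ 2) = π x ^ p := fun x => Iff.rfl
  have hΦ : ∀ z ∈ frattini P, ∃ y, π z = y ^ p := by
    intro z hz
    have hle : frattini P ≤ (FusionEssential.powRange (H := Abelianization P) p 1).comap π := by
      refine Solvable.frattini_le_of_elementary (p := p) (fun x hx => ?_) fun x => ?_
      · rw [Subgroup.mem_comap, show π x = 1 from (QuotientGroup.eq_one_iff x).2 hx]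
        exact one_mem _
      · exact ⟨π x, by simp⟩
    obtain ⟨y, hy⟩ := hle hz
    exact ⟨y, by simpa using hy.symm⟩
  have hle : frattini P ≤ K := fun z hz => by
    obtain ⟨y, hy⟩ := hΦ z hz
    exact (hK z).2 ⟨y, by rw [hy, ← pow_mul, sq]⟩
  rcases h.irred K hle (fun α _ x hx => by
      obtain ⟨y, hy⟩ := (hK x).1 hx
      obtain ⟨y, rfl⟩ := hπ y
      refine (hK _).2 ⟨π (α y), ?_⟩
      have hy' : π (y ^ (p ^ 2)) = π (x ^ p) := by rw [map_pow, map_pow]; exact hy
      rw [← map_pow π, ← map_pow π, ← map_pow α, ← map_pow α]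
      exact QuotientGroup.eq.2 (by
        rw [← map_inv, ← map_mul]
        exact char_mem α (QuotientGroup.eq.1 hy'))) with hK1 | hK1
  swap
  · -- every `p`-th power is a power of arbitrarily high order
    have hiter : ∀ (n : ℕ) (x : P), ∃ y, y ^ (p ^ (n + 1)) = π x ^ p := by
      intro n
      induction n with
      | zero => exact fun x => ⟨π x, by rw [pow_one]⟩
      | succ n ih =>
        intro x
        obtain ⟨y, hy⟩ := ih x
        obtain ⟨y, rfl⟩ := hπ y
        obtain ⟨z, hz⟩ := (hK y).1 (hK1 ▸ Subgroup.mem_top y)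
        refine ⟨z, ?_⟩
        rw [show p ^ (n + 1 + 1) = p ^ 2 * p ^ n by ring, pow_mul, hz, ← pow_mul, ← pow_succ', hy]
    obtain ⟨N, hN⟩ := IsPGroup.iff_card.1 (h.isP.of_surjective π hπ)
    intro x
    obtain ⟨y, hy⟩ := hiter N x
    rw [← hy, pow_succ, pow_mul, ← hN, pow_card_eq_one', one_pow]
  -- the transvection
  exfalso
  let v : AddMonoid.End (Additive (Abelianization P)) :=
    MonoidHom.toAdditive (Abelianization.map u.toMonoidHom)
  have hv : ∀ x : P, v (Additive.ofMul (π x)) = Additive.ofMul (π (u x)) := fun x => rfl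
  set N := v - 1 with hN
  have hvpow : ∀ (k : ℕ) (x : P),
      (v ^ k) (Additive.ofMul (π x)) = Additive.ofMul (π ((u ^ k) x)) := by
    intro k
    induction k with
    | zero => intro x; rfl
    | succ k ih =>
      intro x
      rw [pow_succ', pow_succ']
      show v ((v ^ k) _) = _
      rw [ih, hv]
      rfl
  have hper : (1 + N) ^ p = 1 := by
    rw [hN, add_sub_cancel]
    refine AddMonoidHom.ext fun z => ?_
    obtain ⟨x, rfl⟩ : ∃ x, Additive.ofMul (π x) = z := ⟨_, congrArg Additive.ofMul (hπ z.toMul).choose_spec⟩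
    obtain ⟨g, hg⟩ := h.inner
    refine (hvpow p x).trans (congrArg Additive.ofMul ?_)
    rw [hg, MulAut.conj_apply, map_mul, map_mul, map_inv, mul_comm (π g), mul_inv_cancel_right]
  have hNa : ∀ x : P, N (Additive.ofMul (π x)) = Additive.ofMul (π (x⁻¹ * u x)) := fun x => by
    show v (Additive.ofMul (π x)) - Additive.ofMul (π x) = _
    rw [hv, map_mul, map_inv, mul_comm, ofMul_mul, ofMul_inv, sub_eq_add_neg]
  obtain ⟨yb, hyb⟩ := hΦ _ h.fixb
  obtain ⟨ya, hya⟩ := hΦ _ h.movea
  have hNb : N (Additive.ofMul (π b)) = p • Additive.ofMul yb := by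
    rw [hNa, hyb, ofMul_pow]
  have hNa' : N (Additive.ofMul (π a)) = Additive.ofMul (π b) + p • Additive.ofMul ya := by
    rw [hNa, ← ofMul_pow, ← ofMul_mul, ← hya, ← map_mul]
    congr 2
    group
  let P1 : AddSubgroup (Additive (Abelianization P)) :=
    (nsmulAddMonoidHom (α := Additive (Abelianization P)) p).range
  let U : AddSubgroup (Additive (Abelianization P)) := P1.comap (N ^ 2)
  have h2 : ∀ z, ∃ c, (N ^ 2) z = p • c := by
    have hall : Subgroup.closure ({a, b} : Set P) ≤ (AddSubgroup.toSubgroup' U).comap π := by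
      refine (Subgroup.closure_le _).2 ?_
      rintro x (rfl | rfl)
      · refine ⟨Additive.ofMul yb + N (Additive.ofMul ya), ?_⟩
        show p • _ = (N ^ 2) (Additive.ofMul (π x))
        rw [sq]
        show p • _ = N (N (Additive.ofMul (π x)))
        rw [hNa', map_add, hNb, map_nsmul, nsmul_add]
      · refine ⟨N (Additive.ofMul yb), ?_⟩
        show p • _ = (N ^ 2) (Additive.ofMul (π x))
        rw [sq]
        show p • _ = N (N (Additive.ofMul (π x)))
        rw [hNb, map_nsmul]
    intro z
    obtain ⟨x, hx⟩ := hπ z.toMul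
    obtain ⟨c, hc⟩ := hall (hgen.symm ▸ Subgroup.mem_top x : x ∈ Subgroup.closure ({a, b} : Set P))
    refine ⟨c, ?_⟩
    rw [show z = Additive.ofMul (π x) from congrArg Additive.ofMul hx.symm]
    exact hc.symm
  obtain ⟨c, hc⟩ := FusionEssential.sub_one_pow_mem hp5 N h2 hper (Additive.ofMul (π a))
  rw [hNa', nsmul_add, ← mul_nsmul', ← eq_sub_iff_add_eq, ← nsmul_sub] at hc
  apply h.hb
  rw [← hK1]
  refine (hK b).2 ⟨(c - Additive.ofMul ya).toMul, ?_⟩
  have hc' := congrArg Additive.toMul hc
  rw [toMul_nsmul, toMul_nsmul, toMul_ofMul] at hc'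
  rw [hc', sq]

end CfsgLib.FusionTwoGenEssential
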