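import Cfsg.Agent.FusionTwoGenEssential.Fourth

/-!
# The centre in the case of order above `p³`
-/

set_option autoImplicit false
set_option linter.style.haveILetI false

namespace CfsgLib.FusionTwoGenEssential

open scoped commutatorElement

variable {P : Type*} [Group P] [Finite P] {p : ℕ} [hp : Fact p.Prime] {A : Subgroup (MulAut P)}
  {u : MulAut P} {a b : P}

/-- In sectional rank three, with order above `p³`, the centre lies in `Φ(P)`, commutation into
the centre characterises `Φ(P)`, and `[y, a]` is moved by `u` for `y ∈ Φ(P) \ Z(P)`. -/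
theorem Irred.centre (h : Irred p A u a b) (hp5 : 5 ≤ p) (hrk : FusionTwoEssentials.Rank3 p P)
    (hbig : p ^ 3 < Nat.card P) :
    (∀ y, (∀ x, ⁅y, x⁆ ∈ Subgroup.center P) → y ∈ frattini P) ∧
      ∀ y ∈ frattini P, u ⁅y, a⁆ = ⁅y, a⁆ → y ∈ Subgroup.center P := by
  have h3 : g3 P ≠ ⊥ := fun h3 => (h.card_le hp5 h3).not_gt hbig
  obtain ⟨hker, hidx, himg⟩ := (h.third hp5).resolve_left h3
  have h4 := h.g4_eq_bot hp5 hrk h3
  set c := ⁅a, b⁆ with hcdef
  have hcm : c ∈ commutator P :=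
    Subgroup.commutator_mem_commutator (Subgroup.mem_top a) (Subgroup.mem_top b)
  have hΦ : frattini P = commutator P := h.frattini_eq hp5
  have h4' : ∀ {x : P}, x ∈ g4 P ↔ x = 1 := by rw [h4]; exact Subgroup.mem_bot
  have hcen : ∀ z ∈ g3 P, z ∈ Subgroup.center P := fun z hz => Subgroup.mem_center_iff.2 fun y =>
    (commutatorElement_eq_one_iff_commute.1 (h4'.1 (comm_mem_g4 (y := y) hz))).eq.symm
  have hker' : ∀ x, ⁅c, x⁆ = 1 ↔ x ∈ frattini P := fun x => h4'.symm.trans (hker x)
  have hcp : c ^ p = 1 := h4'.1 (h.c_pow_mem_g4 hp5)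
  have hphi : ∀ (x : P) (i : ℕ), ⁅c ^ i, x⁆ = ⁅c, x⁆ ^ i := fun x i =>
    comm_pow_left (Subgroup.mem_center_iff.1 (hcen _ (comm_mem_g3 hcm)) c) i
  have hsplit : ∀ y ∈ frattini P, ∃ i : ℕ, ∀ x : P, ⁅y, x⁆ = ⁅c, x⁆ ^ i := by
    intro y hy
    obtain ⟨i, hi⟩ := exists_pow_c h.closure_eq (hΦ ▸ hy)
    refine ⟨i, fun x => ?_⟩
    rw [show y = c ^ i * ((c ^ i)⁻¹ * y) by rw [mul_inv_cancel_left],
      FusionTwoEssentials.comm_mul_left, h4'.1 (comm_mem_g4 hi), mul_one, mul_inv_cancel, one_mul,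
      hphi]
  constructor
  · -- elements commuting into the centre
    set L := FusionTwoEssentials.commInto (Subgroup.center P) (⊤ : Subgroup P) with hL
    have hle : frattini P ≤ L := fun x hx z _ => hcen _ (comm_mem_g3 (hΦ ▸ hx))
    rcases h.irred L hle (fun α _ x hx z _ => by
        obtain ⟨z', rfl⟩ := α.surjective z
        rw [← map_commutatorElement]
        exact char_mem α (hx z' (Subgroup.mem_top _))) with hL1 | hL1
    · exact fun y hy => hL1.le (fun z _ => hy z)
    · exfalso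
      refine h3 (le_bot_iff.1 (Subgroup.commutator_le.2 ?_))
      intro y hy x _
      have h1 : commutator P ≤ Subgroup.center P := (commutator_def P).trans_le
        (Subgroup.commutator_le.2 fun v _ w _ =>
          (hL1.ge (Subgroup.mem_top v) : v ∈ L) w (Subgroup.mem_top w))
      exact Subgroup.mem_bot.2 (commutatorElement_eq_one_iff_commute.2
        ((Subgroup.mem_center_iff.1 (h1 hy) x).symm))
  · intro y hy hfix
    obtain ⟨i, hi⟩ := hsplit y hy
    obtain ⟨f, hf, hua⟩ : ∃ f ∈ frattini P, u a = a * b * f :=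
      ⟨_, h.movea, by rw [mul_inv_cancel_left]⟩
    have hhom : ∀ x x', ⁅c, x * x'⁆ = ⁅c, x⁆ * ⁅c, x'⁆ := fun x x' => by
      rw [FusionTwoEssentials.comm_mul_right,
        Subgroup.mem_center_iff.1 (hcen _ (comm_mem_g3 hcm)) x, mul_inv_cancel_right]
    have huc : ⁅u c, u a⁆ = ⁅c, a⁆ * ⁅c, b⁆ := by
      obtain ⟨k, hk⟩ := h.periodic
      have h23 : (g3 P).relIndex (commutator P) ≤ p := by
        have h1 : commutator P ≤ g3 P ⊔ Subgroup.zpowers c := fun x hx => by
          obtain ⟨i, hi⟩ := exists_pow_c h.closure_eq hx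
          rw [show x = c ^ i * ((c ^ i)⁻¹ * x) by rw [mul_inv_cancel_left]]
          exact Subgroup.mul_mem _ (Subgroup.mem_sup_right
            (Subgroup.pow_mem _ (Subgroup.mem_zpowers c) i)) (Subgroup.mem_sup_left hi)
        by_cases hc1 : c ∈ g3 P
        · rw [Subgroup.relIndex_eq_one.2 (h1.trans (sup_le le_rfl (Subgroup.zpowers_le.2 hc1)))]
          exact hp.out.pos
        · refine (Nat.le_of_dvd hp.out.pos ?_)
          rw [← FusionTwoEssentials.relIndex_sup_zpowers (h.c_pow_mem hp5) hc1,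
            le_antisymm h1 (sup_le g3_le (Subgroup.zpowers_le.2 hcm))]
      have hd := fixed_mod g3_le h.isP h23 hk hcm
      have hcen' : ∀ x, ⁅u c, x⁆ = ⁅c, x⁆ := fun x => by
        rw [show u c = c * (c⁻¹ * u c) by rw [mul_inv_cancel_left],
          FusionTwoEssentials.comm_mul_left, h4'.1 (comm_mem_g4 hd), mul_one, mul_inv_cancel,
          one_mul]
      rw [hcen', hua, hhom, hhom, (hker' f).2 hf, mul_one]
    have hb1 : ⁅c, b⁆ ≠ 1 := fun e => h.hb ((hker' b).1 e)
    rw [hi, map_pow, map_commutatorElement, huc, Commute.mul_pow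
      (Subgroup.mem_center_iff.1 (hcen _ (comm_mem_g3 hcm)) _).symm] at hfix
    have hbi : ⁅c, b⁆ ^ i = 1 := mul_eq_left.1 hfix
    obtain ⟨m, rfl⟩ := FusionRankTwo.dvd_of_pow_eq_one hb1
      (show ⁅c, b⁆ ^ p = 1 by rw [← hphi, hcp, commutatorElement_one_left]) hbi
    refine Subgroup.mem_center_iff.2 fun x =>
      (commutatorElement_eq_one_iff_commute.1 ?_).eq.symm
    rw [hi x, pow_mul, ← hphi, hcp, commutatorElement_one_left, one_pow]

end CfsgLib.FusionTwoGenEssential
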