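import Cfsg.Agent.FusionTwoGenEssential.Basic

/-!
# The derived subgroup modulo the third and fourth terms

`P'/γ₃` has order at most `p`, the `p`-th powers lie in `γ₃`, and `c ^ p ∈ γ₄` for `c = [a, b]`.
-/

set_option autoImplicit false
set_option linter.style.haveILetI false

namespace CfsgLib.FusionTwoGenEssential

open scoped commutatorElement

variable {P : Type*} [Group P] [Finite P] {p : ℕ} [hp : Fact p.Prime] {A : Subgroup (MulAut P)}
  {u : MulAut P} {a b : P}

theorem g3_le : g3 P ≤ commutator P := Subgroup.commutator_mono le_top le_rfl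

theorem g4_le : g4 P ≤ g3 P := Subgroup.commutator_mono g3_le le_rfl

theorem g5_le : g5 P ≤ g4 P := Subgroup.commutator_mono g4_le le_rfl

theorem comm_mem_g3 {x y : P} (hx : x ∈ commutator P) : ⁅x, y⁆ ∈ g3 P :=
  Subgroup.commutator_mem_commutator hx (Subgroup.mem_top y)

theorem comm_mem_g4 {x y : P} (hx : x ∈ g3 P) : ⁅x, y⁆ ∈ g4 P :=
  Subgroup.commutator_mem_commutator hx (Subgroup.mem_top y)

theorem comm_mem_g5 {x y : P} (hx : x ∈ g4 P) : ⁅x, y⁆ ∈ g5 P :=
  Subgroup.commutator_mem_commutator hx (Subgroup.mem_top y)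

omit [Finite P] in
theorem mk_eq_one {N : Subgroup P} [N.Normal] {x : P} (hx : x ∈ N) : QuotientGroup.mk' N x = 1 :=
  (QuotientGroup.eq_one_iff x).2 hx

omit [Finite P] in
theorem mk_central {N : Subgroup P} [N.Normal] {x : P} (hx : ∀ y, ⁅x, y⁆ ∈ N) (z : P ⧸ N) :
    Commute (QuotientGroup.mk' N x) z := by
  obtain ⟨y, rfl⟩ := QuotientGroup.mk'_surjective N z
  refine commutatorElement_eq_one_iff_commute.1 ?_
  rw [← map_commutatorElement]
  exact mk_eq_one (hx y)

omit [Finite P] in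
theorem comm_mem_swap {N : Subgroup P} {x y : P} (h : ⁅x, y⁆ ∈ N) : ⁅y, x⁆ ∈ N := by
  rw [← commutatorElement_inv]; exact N.inv_mem h

/-- The derived subgroup is `⟨c⟩ γ₃`. -/
theorem exists_pow_c (hgen : Subgroup.closure ({a, b} : Set P) = ⊤) {x : P}
    (hx : x ∈ commutator P) : ∃ i : ℕ, (⁅a, b⁆ ^ i)⁻¹ * x ∈ g3 P := by
  set π := QuotientGroup.mk' (g3 P) with hπ
  set c := ⁅a, b⁆ with hc
  have hcc : ∀ z, Commute (π c) z :=
    mk_central fun y => comm_mem_g3 (Subgroup.commutator_mem_commutator (Subgroup.mem_top a)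
      (Subgroup.mem_top b))
  have h2 : ∀ u' v' : P, ⁅π u', π v'⁆ ∈ Subgroup.zpowers (π c) := by
    have hT : ∀ u' ∈ ({π a, π b} : Set (P ⧸ g3 P)), ∀ v' ∈ ({π a, π b} : Set (P ⧸ g3 P)),
        ⁅u', v'⁆ ∈ Subgroup.zpowers (π c) := by
      have h0 : ∀ y : P ⧸ g3 P, ⁅y, y⁆ ∈ Subgroup.zpowers (π c) := fun y => by
        rw [commutatorElement_self]; exact one_mem _
      have h1 : ⁅π a, π b⁆ ∈ Subgroup.zpowers (π c) := by
        rw [← map_commutatorElement]; exact Subgroup.mem_zpowers _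
      rintro u' (rfl | rfl) v' (rfl | rfl)
      exacts [h0 _, h1, comm_mem_swap h1, h0 _]
    have htop : ∀ y : P, π y ∈ Subgroup.closure ({π a, π b} : Set (P ⧸ g3 P)) := fun y => by
      rw [← Set.image_pair, ← MonoidHom.map_closure, hgen]
      exact Subgroup.mem_map_of_mem π (Subgroup.mem_top y)
    refine fun u' v' => FusionTwoEssentials.comm_of_closure ?_ hT _ (htop u') _ (htop v')
    rintro l hl y -
    obtain ⟨m, rfl⟩ := Subgroup.mem_zpowers_iff.1 hl
    exact ((hcc y).zpow_left m).eq.symm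
  have hle : commutator P ≤ (Subgroup.zpowers (π c)).comap π := by
    refine (commutator_def P).trans_le (Subgroup.commutator_le.2 ?_)
    intro u' _ v' _
    rw [Subgroup.mem_comap, map_commutatorElement]
    exact h2 u' v'
  obtain ⟨i, hi⟩ := (isOfFinOrder_of_finite _).mem_powers_iff_mem_zpowers.2 (hle hx)
  refine ⟨i, QuotientGroup.eq.1 ?_⟩
  exact ((map_pow π c i).trans hi : π (c ^ i) = π x)

variable (h : Irred p A u a b) (hp5 : 5 ≤ p)
include h hp5

theorem Irred.pow_mem_commutator (x : P) : x ^ p ∈ commutator P :=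
  h.frattini_eq hp5 ▸ Solvable.pow_mem_frattini h.isP x

theorem Irred.comm_mem_of_comm {x : P} (hx : x ∈ frattini P) (y : P) : ⁅x, y⁆ ∈ g3 P :=
  comm_mem_g3 (h.frattini_eq hp5 ▸ hx)

theorem Irred.c_pow_mem : ⁅a, b⁆ ^ p ∈ g3 P := by
  set π := QuotientGroup.mk' (g3 P)
  refine (QuotientGroup.eq_one_iff _).1 (show π (⁅a, b⁆ ^ p) = 1 from ?_)
  have hc : Commute (π a) ⁅π a, π b⁆ := by
    rw [← map_commutatorElement]
    exact (mk_central (fun y => comm_mem_g3 (Subgroup.commutator_mem_commutator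
      (Subgroup.mem_top a) (Subgroup.mem_top b))) _).symm
  rw [map_pow, map_commutatorElement, ← comm_pow_left hc, ← map_pow, ← map_commutatorElement]
  exact mk_eq_one (comm_mem_g3 (h.pow_mem_commutator hp5 a))

/-- `p`-th powers lie in `γ₃`. -/
theorem Irred.pow_mem_g3 (x : P) : x ^ p ∈ g3 P := by
  have hp2 : p ≠ 2 := by omega
  set π := QuotientGroup.mk' (g3 P) with hπ
  set c := ⁅a, b⁆ with hcdef
  have hgen := h.closure_eq
  have hcp : π c ^ p = 1 := by rw [← map_pow]; exact mk_eq_one (h.c_pow_mem hp5)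
  have him : ∀ y ∈ commutator P, π y ∈ Subgroup.zpowers (π c) := fun y hy => by
    obtain ⟨i, hi⟩ := exists_pow_c hgen hy
    rw [show π y = π (c ^ i) from (QuotientGroup.eq.2 hi).symm, map_pow]
    exact Subgroup.pow_mem _ (Subgroup.mem_zpowers _) i
  have hexp : ∀ y ∈ commutator P, π y ^ p = 1 := fun y hy => by
    obtain ⟨m, hm⟩ := Subgroup.mem_zpowers_iff.1 (him y hy)
    rw [← hm, ← zpow_natCast, ← zpow_mul, mul_comm, zpow_mul, zpow_natCast, hcp, one_zpow]
  have hQc : ∀ y z : P ⧸ g3 P, ⁅y, z⁆ ∈ Subgroup.center (P ⧸ g3 P) := fun y z => by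
    obtain ⟨y, rfl⟩ := QuotientGroup.mk'_surjective _ y
    obtain ⟨z, rfl⟩ := QuotientGroup.mk'_surjective _ z
    rw [← map_commutatorElement, Subgroup.mem_center_iff]
    exact fun w => (mk_central (fun t => comm_mem_g3 (Subgroup.commutator_mem_commutator
      (Subgroup.mem_top y) (Subgroup.mem_top z))) w).eq.symm
  have hQe : ∀ y z : P ⧸ g3 P, ⁅y, z⁆ ^ p = 1 := fun y z => by
    obtain ⟨y, rfl⟩ := QuotientGroup.mk'_surjective _ y
    obtain ⟨z, rfl⟩ := QuotientGroup.mk'_surjective _ z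
    rw [← map_commutatorElement]
    exact hexp _ (Subgroup.commutator_mem_commutator (Subgroup.mem_top y) (Subgroup.mem_top z))
  let θ : P →* P ⧸ g3 P := (FusionEssential.pPowHom hp2 hQc hQe).comp π
  have hθ : ∀ y, θ y = π y ^ p := fun y => rfl
  have hθ' : ∀ y, y ∈ θ.ker ↔ y ^ p ∈ g3 P := fun y => by
    rw [MonoidHom.mem_ker, hθ, ← map_pow]
    exact QuotientGroup.eq_one_iff _
  have hle : frattini P ≤ θ.ker := fun y hy => by
    rw [MonoidHom.mem_ker, hθ]
    exact hexp y (h.frattini_eq hp5 ▸ hy)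
  have hidx : θ.ker.index ≤ p := by
    rw [Subgroup.index_ker]
    refine (Subgroup.card_le_of_le (K := Subgroup.zpowers (π c)) ?_).trans ?_
    · rintro _ ⟨y, rfl⟩
      rw [hθ, ← map_pow]
      exact him _ (h.pow_mem_commutator hp5 y)
    · rw [Nat.card_zpowers]
      exact Nat.le_of_dvd hp.out.pos (orderOf_dvd_of_pow_eq_one hcp)
  have htop : θ.ker = ⊤ := by
    refine (h.irred θ.ker hle fun α _ y hy => ?_).resolve_left fun e => ?_
    · rw [hθ'] at hy ⊢
      rw [← map_pow]
      exact char_mem α hy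
    · rw [e, h.index] at hidx
      have := Nat.le_of_dvd hp.out.pos (dvd_refl p)
      nlinarith
  exact (hθ' x).1 (by rw [htop]; exact Subgroup.mem_top x)

theorem Irred.c_pow_mem_g4 : ⁅a, b⁆ ^ p ∈ g4 P := by
  have hp2 : p ≠ 2 := by omega
  set π := QuotientGroup.mk' (g4 P) with hπ
  set c := ⁅a, b⁆ with hcdef
  have hcm : c ∈ commutator P :=
    Subgroup.commutator_mem_commutator (Subgroup.mem_top a) (Subgroup.mem_top b)
  have hcen : ∀ {z : P}, z ∈ g3 P → ∀ w, Commute (π z) w := fun hz =>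
    mk_central fun y => comm_mem_g4 hz
  set d := ⁅π a, π c⁆ with hd
  have hd' : d = π ⁅a, c⁆ := (map_commutatorElement π a c).symm
  have hdc : ∀ w, Commute d w := fun w => by
    rw [hd']; exact hcen (comm_mem_swap (comm_mem_g3 hcm)) w
  have hdp : d ^ p = 1 := by
    have e : ⁅π c, π a⁆ ^ p = 1 := by
      rw [← comm_pow_left ?_, ← map_pow, ← map_commutatorElement]
      · exact mk_eq_one (comm_mem_g4 (h.c_pow_mem hp5))
      · rw [← map_commutatorElement]
        exact (hcen (comm_mem_g3 hcm) _).symm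
    rw [hd, ← commutatorElement_inv (π c) (π a), inv_pow, e, inv_one]
  have e := comm_pow_class_three (a := π a) (b := π b) (c := π c) (d := d)
    (map_commutatorElement π a b).symm rfl (hdc _) (hdc _) p
  obtain ⟨m, hm⟩ := hp.out.dvd_choose_self (k := 2) (by norm_num)
    (lt_of_le_of_ne hp.out.two_le (Ne.symm hp2))
  rw [hm, pow_mul, hdp, one_pow, mul_one, ← map_pow, ← map_pow, ← map_commutatorElement,
    mk_eq_one (comm_mem_g4 (h.pow_mem_g3 hp5 a))] at e
  exact (QuotientGroup.eq_one_iff _).1 e.symm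

end CfsgLib.FusionTwoGenEssential
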