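import Cfsg.Agent.FusionTwoGenEssential.Third

/-!
# The symmetric invariant form on `P/Φ(P)` vanishes

`(v, w) ↦ [[c, v], w]` is a symmetric bilinear map into `γ₄/γ₅`, fixed by `u`; hence `γ₄ = 1`.
-/

set_option autoImplicit false
set_option linter.style.haveILetI false

namespace CfsgLib.FusionTwoGenEssential

open scoped commutatorElement

variable {P : Type*} [Group P] [Finite P] {p : ℕ} [hp : Fact p.Prime] {A : Subgroup (MulAut P)}
  {u : MulAut P} {a b : P}

/-- A `p`-automorphism fixes a factor of order at most `p`. -/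
theorem fixed_mod {M N : Subgroup P} [hMc : M.Characteristic] [hNc : N.Characteristic] (hMN : M ≤ N)
    (hP : IsPGroup p P) (hr : M.relIndex N ≤ p) {α : MulAut P} {k : ℕ} (hk : α ^ p ^ k = 1)
    {x : P} (hx : x ∈ N) : x⁻¹ * α x ∈ M := by
  by_cases hle : N ≤ M
  · exact M.mul_mem (M.inv_mem (hle hx)) (hle (char_mem α hx))
  · exact FusionEssential.inv_mul_apply_mem_of_relIndex
      (le_antisymm hr (FusionTwoEssentials.le_relIndex_of_lt hP hle)) hk
      (fun y hy => char_mem α hy) (fun y hy => char_mem α hy) hx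

/-- `[g₁ g₂, w]` modulo `γ₅`. -/
theorem comm_mul_g3 {g g' : P} (hg' : g' ∈ g3 P) (w : P) :
    QuotientGroup.mk' (g5 P) ⁅g * g', w⁆ =
      QuotientGroup.mk' (g5 P) ⁅g, w⁆ * QuotientGroup.mk' (g5 P) ⁅g', w⁆ := by
  have hc := mk_central (N := g5 P) (x := ⁅g', w⁆) fun y => comm_mem_g5 (comm_mem_g4 hg')
  rw [FusionTwoEssentials.comm_mul_left, map_mul, map_mul, map_mul, map_inv,
    (hc _).symm.eq, mul_inv_cancel_right, (hc _).eq]

/-- `γ₄ = 1`. -/
theorem Irred.g4_eq_bot (h : Irred p A u a b) (hp5 : 5 ≤ p)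
    (hrk : FusionTwoEssentials.Rank3 p P) (h3 : g3 P ≠ ⊥) : g4 P = ⊥ := by
  haveI : Group.IsNilpotent P := h.isP.isNilpotent
  have hp2 : p ≠ 2 := by omega
  obtain ⟨hker, hidx, himg⟩ := (h.third hp5).resolve_left h3
  obtain ⟨h45, hpow⟩ := h.fourth hp5 hrk hidx himg
  set c := ⁅a, b⁆ with hcdef
  have hcm : c ∈ commutator P :=
    Subgroup.commutator_mem_commutator (Subgroup.mem_top a) (Subgroup.mem_top b)
  have hΦ : frattini P = commutator P := h.frattini_eq hp5
  set R := FusionTwoEssentials.commInto (g5 P) (g3 P) with hR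
  have hle : frattini P ≤ R := fun x hx z hz => comm_mem_swap (comm_g3_mem hz (hΦ ▸ hx))
  rcases h.irred R hle (fun α _ x hx z hz => by
      obtain ⟨z', rfl⟩ := α.surjective z
      rw [← map_commutatorElement]
      exact char_mem α (hx z' (by simpa using char_mem α.symm hz))) with hR1 | hR1
  swap
  · refine eq_bot_of_le_commutator (Subgroup.commutator_le.2 fun z hz x _ => ?_)
    exact comm_mem_swap ((hR1 ▸ Subgroup.mem_top x : x ∈ R) z hz)
  exfalso
  refine h.hb (hR1 ▸ ?_)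
  set π := QuotientGroup.mk' (g5 P) with hπ
  have hz4 : ∀ z ∈ g4 P, ∀ w, Commute (π z) w := fun z hz =>
    mk_central fun y => comm_mem_g5 hz
  have hc3 : ∀ v, ⁅c, v⁆ ∈ g3 P := fun v => comm_mem_g3 hcm
  -- the form
  let B : P → P → P ⧸ g5 P := fun v w => π ⁅⁅c, v⁆, w⁆
  have hBdef : ∀ v w, B v w = π ⁅⁅c, v⁆, w⁆ := fun v w => rfl
  have hBc : ∀ v w z, Commute (B v w) z := fun v w => hz4 _ (comm_mem_g4 (hc3 v))
  have hBp : ∀ v w, B v w ^ p = 1 := fun v w => by
    rw [hBdef, ← map_pow]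
    exact mk_eq_one (hpow _ (g4_le (comm_mem_g4 (hc3 v))))
  have hright : ∀ v w w', B v (w * w') = B v w * B v w' := fun v w w' => by
    rw [hBdef, FusionTwoEssentials.comm_mul_right, map_mul, map_mul, map_mul, map_inv,
      (hz4 _ (comm_mem_g4 (hc3 v)) (π w)).symm.eq, mul_inv_cancel_right]
  -- only the classes matter
  have hcongr : ∀ (v w : P), ∀ z ∈ g3 P, ∀ f ∈ frattini P, ∀ f' ∈ frattini P,
      π ⁅⁅c * z, v * f⁆, w * f'⁆ = B v w := by
    intro v w z hz f hf f' hf'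
    have ht : ⁅c, v⁆⁻¹ * ⁅c * z, v * f⁆ ∈ g4 P := by
      refine QuotientGroup.eq.1 (Eq.symm (show QuotientGroup.mk' (g4 P) ⁅c * z, v * f⁆ =
        QuotientGroup.mk' (g4 P) ⁅c, v⁆ from ?_))
      have hzc := mk_central (N := g4 P) (x := z) (fun y => comm_mem_g4 hz)
      have hvf : QuotientGroup.mk' (g4 P) ⁅c, f⁆ = 1 :=
        mk_eq_one (g5_le (h.commutator_comm_mem hp5 hcm (hΦ ▸ hf)))
      rw [map_commutatorElement, map_mul, FusionTwoEssentials.comm_mul_left,
        commutatorElement_eq_one_iff_commute.2 (hzc _), mul_one, mul_inv_cancel, one_mul,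
        ← map_commutatorElement, FusionTwoEssentials.comm_mul_right, map_mul, map_mul, map_mul,
        hvf, mul_one, map_inv, mul_inv_cancel, mul_one]
    rw [show ⁅c * z, v * f⁆ = ⁅c, v⁆ * (⁅c, v⁆⁻¹ * ⁅c * z, v * f⁆) by rw [mul_inv_cancel_left],
      comm_mul_g3 (g4_le ht), mk_eq_one (comm_mem_g5 ht), mul_one, ← hBdef, hright,
      show B v f' = 1 from mk_eq_one (comm_g3_mem (hc3 v) (hΦ ▸ hf')), mul_one]
  have hleft : ∀ v v' w, B (v * v') w = B v w * B v' w := by
    intro v v' w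
    have hd : ⁅c, v'⁆⁻¹ * (v * ⁅c, v'⁆ * v⁻¹) ∈ g4 P := by
      rw [show ⁅c, v'⁆⁻¹ * (v * ⁅c, v'⁆ * v⁻¹) = ⁅⁅c, v'⁆⁻¹, v⁆ by
        simp only [commutatorElement_def]; group]
      exact comm_mem_g4 ((g3 P).inv_mem (hc3 v'))
    rw [hBdef, FusionTwoEssentials.comm_mul_right, comm_mul_g3
      ((inferInstance : (g3 P).Normal).conj_mem _ (hc3 v') v),
      show v * ⁅c, v'⁆ * v⁻¹ = ⁅c, v'⁆ * (⁅c, v'⁆⁻¹ * (v * ⁅c, v'⁆ * v⁻¹)) by
        rw [mul_inv_cancel_left],
      comm_mul_g3 (g4_le hd), mk_eq_one (comm_mem_g5 hd), mul_one]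
  -- symmetry
  have hsymm : ∀ v w, B v w = B w v := by
    intro v w
    have hcomm : ∀ x y, x ∈ g3 P → y ∈ commutator P → Commute (π x) (π y) := fun x y hx hy =>
      commutatorElement_eq_one_iff_commute.1
        (by rw [← map_commutatorElement]; exact mk_eq_one (comm_g3_mem hx hy))
    set g := ⁅v, w⁆ with hg
    have hgm : g ∈ commutator P :=
      Subgroup.commutator_mem_commutator (Subgroup.mem_top v) (Subgroup.mem_top w)
    have e1 : π ⁅c, v * w⁆ = π ⁅c, w * v⁆ := by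
      rw [show v * w = g * (w * v) by rw [hg, commutatorElement_def]; group,
        FusionTwoEssentials.comm_mul_right, map_mul, mk_eq_one (h.commutator_comm_mem hp5 hcm hgm),
        one_mul, map_mul, map_mul, map_inv, (hcomm _ _ (hc3 _) hgm).symm.eq, mul_inv_cancel_right]
    have e2 : ∀ v w, π ⁅c, v * w⁆ = π ⁅c, v⁆ * π ⁅c, w⁆ * π ⁅v, ⁅c, w⁆⁆ := by
      intro v w
      have hz := hz4 _ (comm_mem_swap (comm_mem_g4 (y := v) (hc3 w)))
      rw [FusionTwoEssentials.comm_mul_right, FusionTwoEssentials.conj_eq_comm_mul, map_mul,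
        map_mul, (hz (π ⁅c, w⁆)).eq, mul_assoc]
    rw [e2, e2, (hcomm _ _ (hc3 v) (g3_le (hc3 w))).eq] at e1
    have e3 := congrArg (·⁻¹) (mul_left_cancel e1)
    simp only [← map_inv, commutatorElement_inv] at e3
    exact e3.symm
  -- invariance under `u`
  obtain ⟨k, hk⟩ := h.periodic
  have h23 : (g3 P).relIndex (commutator P) ≤ p := by
    have h1 : commutator P ≤ g3 P ⊔ Subgroup.zpowers c := fun x hx => by
      obtain ⟨i, hi⟩ := exists_pow_c h.closure_eq hx
      rw [show x = c ^ i * ((c ^ i)⁻¹ * x) by rw [mul_inv_cancel_left]]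
      exact Subgroup.mul_mem _ (Subgroup.mem_sup_right
        (Subgroup.pow_mem _ (Subgroup.mem_zpowers c) i)) (Subgroup.mem_sup_left hi)
    by_cases hc1 : c ∈ g3 P
    · rw [Subgroup.relIndex_eq_one.2 (h1.trans (sup_le le_rfl (Subgroup.zpowers_le.2 hc1)))]
      exact hp.out.pos
    · refine (Nat.le_of_dvd hp.out.pos ?_)
      rw [← FusionTwoEssentials.relIndex_sup_zpowers (h.c_pow_mem hp5) hc1,
        le_antisymm h1 (sup_le g3_le (Subgroup.zpowers_le.2 hcm))]
  have hinv : ∀ v w, B v w = π ⁅⁅c, u v⁆, u w⁆ := by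
    intro v w
    have hfix : π (u ⁅⁅c, v⁆, w⁆) = B v w :=
      (QuotientGroup.eq.2 (fixed_mod g5_le h.isP h45 hk (comm_mem_g4 (hc3 v)))).symm
    rw [← hfix, map_commutatorElement u, map_commutatorElement u]
    have e := hcongr (u v) (u w) _ (fixed_mod g3_le h.isP h23 hk hcm) 1 (one_mem _) 1 (one_mem _)
    rw [mul_inv_cancel_left, mul_one, mul_one] at e
    exact e
  obtain ⟨fb, hfb, hub⟩ : ∃ f ∈ frattini P, u b = b * f := ⟨_, h.fixb, by rw [mul_inv_cancel_left]⟩
  obtain ⟨fa, hfa, hua⟩ : ∃ f ∈ frattini P, u a = a * b * f :=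
    ⟨_, h.movea, by rw [mul_inv_cancel_left]⟩
  have hval : ∀ v w f f', f ∈ frattini P → f' ∈ frattini P →
      π ⁅⁅c, v * f⁆, w * f'⁆ = B v w := fun v w f f' hf hf' => by
    have e := hcongr v w 1 (one_mem _) f hf f' hf'
    rwa [mul_one] at e
  have hbb : B b b = 1 := by
    have e := hinv a b
    rw [hua, hub, hval _ _ _ _ hfa hfb, hleft] at e
    exact left_eq_mul.1 e
  have hab : B a b = 1 := by
    have e := hinv a a
    rw [hua, hval _ _ _ _ hfa hfa, hleft, hright, hright, hbb, mul_one, hsymm b a,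
      mul_assoc] at e
    have h2 : B a b ^ 2 = 1 := by rw [pow_two]; exact left_eq_mul.1 e
    have hco : Nat.Coprime 2 p := (Nat.coprime_primes Nat.prime_two hp.out).2 (Ne.symm hp2)
    have := pow_gcd_eq_one.2 ⟨h2, hBp a b⟩
    rwa [hco.gcd_eq_one, pow_one] at this
  -- `b` centralises `γ₃/γ₅`
  intro y hy
  let φ : P →* P ⧸ g5 P := MonoidHom.mk' (fun v => B v b) fun v v' => hleft v v' b
  have hφ : Subgroup.closure ({a, b} : Set P) ≤ φ.ker := by
    refine (Subgroup.closure_le _).2 ?_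
    rintro x (rfl | rfl)
    exacts [hab, hbb]
  obtain ⟨x, hx⟩ := himg y hy
  have hx1 : B x b = 1 := hφ (h.closure_eq.symm ▸ Subgroup.mem_top x)
  refine comm_mem_swap ((QuotientGroup.eq_one_iff _).1 (show π ⁅y, b⁆ = 1 from ?_))
  rw [show y = ⁅c, x⁆ * (⁅c, x⁆⁻¹ * y) by rw [mul_inv_cancel_left], comm_mul_g3 (g4_le hx),
    mk_eq_one (comm_mem_g5 hx), mul_one]
  exact hx1

end CfsgLib.FusionTwoGenEssential
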