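import Cfsg.Agent.FusionTwoGenEssential.Centre
import Cfsg.Agent.FusionTwoEssentials.Fusion
import Cfsg.Agent.FusionRankThree.Frame

/-!
# Two-generator essential subgroups of order above `p³` are normal in sectional rank three
-/

set_option autoImplicit false
set_option linter.style.haveILetI false

namespace CfsgLib.FusionTwoGenEssential

open Cfsg Cfsg.FusionSystem CfsgLib.Fusion CfsgLib.FusionEssential
open scoped commutatorElement

variable {Ω : Type*} [Group Ω] {S : Subgroup Ω} [Finite S] {p : ℕ} [hp : Fact p.Prime]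
  {F : FusionSystem S} {E : Subgroup Ω}

/-- The action on the Frattini quotient has a `p`-group as kernel. -/
theorem isPGroup_ker (hS : IsPGroup p S) (hE : E ≤ S) :
    IsPGroup p ((FusionRankThree.quotBar E).comp (F.autGroup E).subtype).ker := by
  haveI := finite_of_le hE
  intro α
  have hαx : ∀ x : E, ((α : F.autGroup E) : MulAut E) x * x⁻¹ ∈ frattini E := by
    intro x
    have h1 := DFunLike.congr_fun (MonoidHom.mem_ker.1 α.2) (QuotientGroup.mk' _ x)
    rw [MonoidHom.comp_apply, Subgroup.coe_subtype, FusionRankThree.quotBar_mk,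
      MulAut.one_apply] at h1
    refine (QuotientGroup.eq_one_iff _).1 (show QuotientGroup.mk' (frattini E) _ = 1 from ?_)
    rw [map_mul, map_inv, h1, mul_inv_cancel]
  obtain ⟨k, hk⟩ := FusionRankThree.exists_pow_eq_one_of_frattini (hS.to_le hE) hαx
  exact ⟨k, Subtype.ext (Subtype.ext hk)⟩

/-- No line of `E/Φ(E)` is invariant under `Aut_F(E)`. -/
theorem irreducible (hS : IsPGroup p S) (hE : F.IsEssential p E)
    (hidx : (frattini E).index = p ^ 2) (K : Subgroup E) (hK : frattini E ≤ K)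
    (hinv : ∀ α ∈ F.autGroup E, ∀ x ∈ K, α x ∈ K) : K = frattini E ∨ K = ⊤ := by
  haveI := finite_of_le hE.1.1
  have hEp : IsPGroup p E := hS.to_le hE.1.1
  by_contra hcon
  rw [not_or] at hcon
  obtain ⟨i, hi⟩ := hEp.index K
  have h1 := Subgroup.relIndex_mul_index hK
  rw [hidx, hi] at h1
  have h2 := FusionTwoEssentials.le_relIndex_of_lt hEp
    (fun h => hcon.1 (le_antisymm h hK))
  have hi0 : i ≠ 0 := fun h0 => hcon.2 (Subgroup.index_eq_one.1 (by rw [hi, h0, pow_zero]))
  have hrel : (frattini E).relIndex K = p ∧ K.index = p := by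
    have h3 : p * p ^ i ≤ p ^ 2 := h1 ▸ Nat.mul_le_mul_right _ h2
    rw [← pow_succ'] at h3
    have := (Nat.pow_le_pow_iff_right hp.out.one_lt).1 h3
    obtain rfl : i = 1 := by omega
    rw [pow_one] at h1 hi
    exact ⟨Nat.eq_of_mul_eq_mul_right hp.out.pos (h1.trans (sq p)), hi⟩
  set ψ := (FusionRankThree.quotBar E).comp (F.autGroup E).subtype with hψ
  obtain ⟨α, β, ⟨i₁, hα⟩, ⟨i₂, hβ⟩, hne⟩ :=
    FusionRankTwo.exists_noncommute_of_hom hE ψ (isPGroup_ker hS hE.1.1)
  have hKn : K.Normal := ⟨fun x hx g => hinv _ (Inn_le_autGroup hE.1.1 ⟨g, rfl⟩) x hx⟩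
  set π := QuotientGroup.mk' (frattini E) with hπ
  have hVc : ∀ y z : E, π y * π z = π z * π y := fun y z => by
    rw [← commutatorElement_eq_one_iff_mul_comm, ← map_commutatorElement]
    exact (QuotientGroup.eq_one_iff _).2 (Solvable.commutator_le_frattini hEp
      (Subgroup.commutator_mem_commutator (Subgroup.mem_top y) (Subgroup.mem_top z)))
  have hstab : ∀ γ : F.autGroup E, (∃ k, γ ^ p ^ k = 1) → (∀ x : E,
      x⁻¹ * (γ : MulAut E) x ∈ K) ∧ ∀ x ∈ K, π ((γ : MulAut E) x) = π x := by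
    rintro γ ⟨k, hk⟩
    have hk' : (γ : MulAut E) ^ p ^ k = 1 := by rw [← SubgroupClass.coe_pow, hk]; rfl
    haveI : (K.subgroupOf ⊤).Normal := hKn.subgroupOf ⊤
    haveI : ((frattini E).subgroupOf K).Normal :=
      (inferInstance : (frattini E).Normal).subgroupOf K
    refine ⟨fun x => inv_mul_apply_mem_of_relIndex
      (by rw [Subgroup.relIndex_top_right, hrel.2]) hk' (fun y _ => Subgroup.mem_top _)
      (hinv _ γ.2) (Subgroup.mem_top x), fun x hx => (QuotientGroup.eq.2
      (inv_mul_apply_mem_of_relIndex hrel.1 hk' (hinv _ γ.2) (fun y hy => char_mem _ hy) hx)).symm⟩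
  obtain ⟨hα1, hα2⟩ := hstab α ⟨i₁, hα⟩
  obtain ⟨hβ1, hβ2⟩ := hstab β ⟨i₂, hβ⟩
  refine hne (MulEquiv.ext fun v => ?_)
  obtain ⟨x, rfl⟩ := QuotientGroup.mk'_surjective _ v
  rw [MulAut.mul_apply, MulAut.mul_apply]
  show π ((α : MulAut E) ((β : MulAut E) x)) = π ((β : MulAut E) ((α : MulAut E) x))
  have key : ∀ γ δ : F.autGroup E, (∀ y ∈ K, π ((γ : MulAut E) y) = π y) →
      x⁻¹ * (δ : MulAut E) x ∈ K → π ((γ : MulAut E) ((δ : MulAut E) x)) =
        π x * π (x⁻¹ * (γ : MulAut E) x) * π (x⁻¹ * (δ : MulAut E) x) := by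
    intro γ δ hγ hδ
    calc π ((γ : MulAut E) ((δ : MulAut E) x))
        = π ((γ : MulAut E) x) * π ((γ : MulAut E) (x⁻¹ * (δ : MulAut E) x)) := by
          rw [← map_mul π, ← map_mul (γ : MulAut E), mul_inv_cancel_left]
      _ = _ := by rw [hγ _ hδ, ← map_mul π x, mul_inv_cancel_left]
  rw [key α β hα2 (hβ1 x), key β α hβ2 (hα1 x), mul_assoc, mul_assoc,
    hVc (x⁻¹ * (α : MulAut E) x)]

/-- The data of `Irred` for an element of `N_S(E) \ E`. -/
theorem exists_irred (hS : IsPGroup p S) (hF : F.IsSaturated p) (hE : F.IsEssential p E)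
    (hidx : (frattini E).index = p ^ 2) (x : normalizerIn S E) (hx : (x : Ω) ∉ E) :
    ∃ a b : E, Irred p (F.autGroup E) ((FusionRankTwo.normAut F hE.1.1 x : F.autGroup E) : MulAut E)
        a b ∧
      ∀ g : normalizerIn S E, ∃ n : ℕ, ((x ^ n)⁻¹ * g : normalizerIn S E).1 ∈ E := by
  have hES := hE.1.1
  haveI := finite_of_le hES
  have hEp : IsPGroup p E := hS.to_le hES
  set π := QuotientGroup.mk' (frattini E) with hπ
  have hVc : ∀ y z : E ⧸ frattini E, y * z = z * y := fun y z => by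
    obtain ⟨y, rfl⟩ := QuotientGroup.mk'_surjective _ y
    obtain ⟨z, rfl⟩ := QuotientGroup.mk'_surjective _ z
    rw [← commutatorElement_eq_one_iff_mul_comm, ← map_commutatorElement]
    exact (QuotientGroup.eq_one_iff _).2 (Solvable.commutator_le_frattini hEp
      (Subgroup.commutator_mem_commutator (Subgroup.mem_top y) (Subgroup.mem_top z)))
  have hVe : ∀ y : E ⧸ frattini E, y ^ p = 1 := fun y => by
    obtain ⟨y, rfl⟩ := QuotientGroup.mk'_surjective _ y
    rw [← map_pow]
    exact (QuotientGroup.eq_one_iff _).2 (Solvable.pow_mem_frattini hEp y)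
  set ψ := (FusionRankThree.quotBar E).comp (F.autGroup E).subtype with hψ
  have hker := isPGroup_ker (F := F) hS hES
  obtain ⟨e, f, he, -, hue, huf, hspan, hpow, -⟩ := FusionRankTwo.exists_frame hS hE ψ hker hVc hVe
    (by rw [← Subgroup.index_eq_card, hidx]) hF x hx
  obtain ⟨b, rfl⟩ := QuotientGroup.mk'_surjective _ e
  obtain ⟨a, rfl⟩ := QuotientGroup.mk'_surjective _ f
  set u := FusionRankTwo.normAut F hES x with hu
  have hup : ψ u ^ p = 1 := by
    have key : ∀ n : ℕ, (ψ u ^ n) (π b) = π b ∧ (ψ u ^ n) (π a) = π a * π b ^ n := by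
      intro n
      induction n with
      | zero => simp
      | succ n ih =>
        refine ⟨by rw [pow_succ', MulAut.mul_apply, ih.1, hue], ?_⟩
        rw [pow_succ', MulAut.mul_apply, ih.2, map_mul, map_pow, huf, hue, mul_assoc, ← pow_succ']
    refine MulEquiv.ext fun v => ?_
    obtain ⟨r, s, rfl⟩ := hspan v
    rw [map_mul, map_pow, map_pow, (key p).1, (key p).2, hVe, mul_one]
    rfl
  have hxp : ((x ^ p : normalizerIn S E) : Ω) ∈ E :=
    FusionRankTwo.mem_of_ker hE ψ hker (x ^ p) (by rw [map_pow, map_pow]; exact hup)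
  refine ⟨a, b, ⟨hEp, hidx, irreducible hS hE hidx, u.2, ⟨⟨_, hxp⟩, ?_⟩, ?_, ?_, ?_⟩, fun g => ?_⟩
  · rw [← SubgroupClass.coe_pow, hu, ← map_pow]
    exact MulEquiv.ext fun y => Subtype.ext rfl
  · exact fun h => he ((QuotientGroup.eq_one_iff b).2 h)
  · exact QuotientGroup.eq.1 hue.symm
  · exact QuotientGroup.eq.1 ((map_mul π a b).trans huf.symm)
  · obtain ⟨n, hn⟩ := hpow g
    exact ⟨n, FusionRankTwo.mem_of_ker hE ψ hker _
      (by rw [map_mul, map_mul, map_inv, map_inv, map_pow, map_pow, hn, inv_mul_cancel])⟩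

omit [Finite S] hp in
theorem rank3_of_le (hrk : FusionTwoEssentials.Rank3 p S) (hE : E ≤ S) :
    FusionTwoEssentials.Rank3 p E := by
  intro M N hMN hc hpow
  set i := Subgroup.inclusion hE
  have h := hrk (M.map i) (N.map i) (Subgroup.map_mono hMN) ?_ ?_
  · rwa [Subgroup.relIndex_map_map_of_injective _ _ (Subgroup.inclusion_injective hE)] at h
  · rintro _ ⟨y, hy, rfl⟩ _ ⟨z, hz, rfl⟩
    rw [← map_commutatorElement]
    exact ⟨_, hc y hy z hz, rfl⟩
  · rintro _ ⟨y, hy, rfl⟩
    rw [← map_pow]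
    exact ⟨_, hpow y hy, rfl⟩

/-- `E = C_N(Z₂(N))` for `N = N_S(E)`, so `E` is normal in `S`. -/
theorem le_normalizer_of_two_gen (hp5 : 5 ≤ p) (hS : IsPGroup p S)
    (hrk : FusionTwoEssentials.Rank3 p S) (hF : F.IsSaturated p) (hE : F.IsEssential p E)
    (hidx : (frattini E).index = p ^ 2) (hbig : p ^ 3 < Nat.card E) :
    S ≤ Subgroup.normalizer (E : Set Ω) := by
  have hES := hE.1.1
  haveI := finite_of_le hES
  set N := normalizerIn S E with hN
  have hNS : N ≤ S := normalizerIn_le S E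
  haveI := finite_of_le hNS
  have hEN : E ≤ N := le_normalizerIn hES
  obtain ⟨x₀, hx₀⟩ := FusionRankTwo.exists_normalizer_not_mem hS hF hE
  obtain ⟨a, b, hI, hgen⟩ := exists_irred hS hF hE hidx x₀ hx₀
  obtain ⟨hL, hfix⟩ := hI.centre hp5 (rank3_of_le hrk hES) hbig
  -- central elements of `N` lie in `E`
  have hZE : ∀ z : N, z ∈ Subgroup.center N → (z : Ω) ∈ E := fun z hz =>
    FusionRankTwo.mem_of_ker hE _ (isPGroup_ker hS hES) z (by
      have h1 : FusionRankTwo.normAut F hES z = 1 := Subtype.ext (MulEquiv.ext fun y =>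
        Subtype.ext (by
          show (z : Ω) * y * (z : Ω)⁻¹ = y
          have h2 := congrArg Subtype.val (Subgroup.mem_center_iff.1 hz ⟨y, hEN y.2⟩)
          rw [Subgroup.coe_mul, Subgroup.coe_mul] at h2
          rw [← h2, mul_inv_cancel_right]))
      rw [h1, map_one])
  have hZc : ∀ z : E, (⟨z, hEN z.2⟩ : N) ∈ Subgroup.center N → z ∈ Subgroup.center E :=
    fun z hz => Subgroup.mem_center_iff.2 fun y =>
      Subtype.ext (congrArg Subtype.val (Subgroup.mem_center_iff.1 hz ⟨y, hEN y.2⟩) :)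
  -- the second centre lies in the centre of `E`
  have hZ2 : ∀ y : N, (∀ n : N, ⁅y, n⁆ ∈ Subgroup.center N) →
      ∀ e ∈ E, (y : Ω) * e = e * y := by
    intro y hy
    have hyE : (y : Ω) ∈ E := by
      refine FusionRankTwo.mem_of_ker hE _ (isPGroup_ker hS hES) y (MulEquiv.ext fun v => ?_)
      obtain ⟨v, rfl⟩ := QuotientGroup.mk'_surjective _ v
      rw [MulAut.one_apply, MonoidHom.comp_apply, Subgroup.coe_subtype, FusionRankThree.quotBar_mk]
      refine QuotientGroup.eq.2 ?_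
      have h1 := hy ⟨v, hEN v.2⟩
      have hc := hZc ⟨_, hZE _ h1⟩ h1
      have h2 : (⟨_, hZE _ h1⟩ : E) ∈ frattini E :=
        hL _ fun t => by
          rw [commutatorElement_eq_one_iff_commute.2 (Subgroup.mem_center_iff.1 hc t).symm]
          exact one_mem _
      have e : ((FusionRankTwo.normAut F hES y : F.autGroup E) : MulAut E) v =
          ⟨_, hZE _ h1⟩ * v := Subtype.ext (by
        show (y : Ω) * v * (y : Ω)⁻¹ = _ * (v : Ω)
        simp [commutatorElement_def])
      rw [e, mul_inv_rev]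
      exact (inferInstance : (frattini E).Normal).conj_mem' _ ((frattini E).inv_mem h2) v
    have hyΦ : (⟨y, hyE⟩ : E) ∈ frattini E := hL _ fun t => hZc _ (hy ⟨t, hEN t.2⟩)
    have hyc := hfix _ hyΦ (Subtype.ext (by
      show (x₀ : Ω) * (⁅(⟨y, hyE⟩ : E), a⁆ : E) * (x₀ : Ω)⁻¹ = _
      have h2 := congrArg Subtype.val (Subgroup.mem_center_iff.1 (hy ⟨a, hEN a.2⟩) x₀)
      simp only [commutatorElement_def, Subgroup.coe_mul, Subgroup.coe_inv] at h2 ⊢
      rw [h2, mul_inv_cancel_right]))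
    intro e he
    exact (congrArg Subtype.val (Subgroup.mem_center_iff.1 hyc ⟨e, he⟩)).symm
  -- a non-central element of the second centre
  have hNp : IsPGroup p N := hS.to_le hNS
  have hnab : ¬ (⊤ : Subgroup N) ≤ Subgroup.center N := fun h =>
    hx₀ (hZE x₀ (h (Subgroup.mem_top x₀)))
  obtain ⟨y, -, hyZ, hy⟩ :=
    FusionTwoEssentials.exists_central_mod hNp (inferInstance : (⊤ : Subgroup N).Normal) hnab
  have hy' : ∀ n : N, ⁅y, n⁆ ∈ Subgroup.center N := fun n => comm_mem_swap (hy n)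
  -- `E` is the centraliser
  have hchar : ∀ g : N, (g : Ω) ∈ E ↔ ∀ z : N, (∀ n : N, ⁅z, n⁆ ∈ Subgroup.center N) →
      Commute (g : Ω) z := by
    refine fun g => ⟨fun hg z hz => (hZ2 z hz g hg).symm, fun hg => ?_⟩
    obtain ⟨n, hn⟩ := hgen g
    by_contra hgE
    have hpn : ¬ p ∣ n := by
      rintro ⟨m, rfl⟩
      apply hgE
      have hxp : ((x₀ ^ (p * m) : N) : Ω) ∈ E := by
        rw [pow_mul, SubgroupClass.coe_pow]
        refine E.pow_mem ?_ m
        obtain ⟨h0, hh⟩ := hI.inner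
        refine FusionRankTwo.mem_of_ker hE _ (isPGroup_ker hS hES) (x₀ ^ p) ?_
        rw [map_pow, MonoidHom.comp_apply, Subgroup.coe_subtype, SubgroupClass.coe_pow, hh]
        refine MulEquiv.ext fun v => ?_
        obtain ⟨v, rfl⟩ := QuotientGroup.mk'_surjective _ v
        rw [FusionRankThree.quotBar_mk, MulAut.one_apply, MulAut.conj_apply]
        refine QuotientGroup.eq.2 ?_
        have := Solvable.commutator_le_frattini hI.isP
          (Subgroup.commutator_mem_commutator (Subgroup.mem_top h0) (Subgroup.mem_top v⁻¹))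
        simpa [commutatorElement_def, mul_assoc] using this
      have := E.mul_mem hxp hn
      simpa [← Subgroup.coe_mul] using this
    apply hyZ
    have hxn : Commute ((x₀ ^ n : N) : Ω) y := by
      have h1 : Commute (((x₀ ^ n)⁻¹ * g : N) : Ω) y := ((hZ2 y hy' _ hn).symm :)
      have h2 := Commute.mul_left (hg y hy') h1.inv_left
      simpa using h2
    obtain ⟨k, hk⟩ := IsPGroup.iff_orderOf.1 hNp x₀
    obtain ⟨m, hm⟩ := exists_pow_eq_self_of_coprime (x := x₀) (n := n) (by
      rw [hk]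
      exact Nat.Coprime.pow_right k ((hp.out.coprime_iff_not_dvd.2 hpn).symm))
    have hxy : Commute (x₀ : Ω) y := by
      rw [← hm, SubgroupClass.coe_pow]
      exact hxn.pow_left m
    refine Subgroup.mem_center_iff.2 fun g' => Subtype.ext ?_
    obtain ⟨n', hn'⟩ := hgen g'
    have h1 : Commute (((x₀ ^ n')⁻¹ * g' : N) : Ω) y := ((hZ2 y hy' _ hn').symm :)
    have h2 := (hxy.pow_left n').mul_left h1
    simpa using h2.eq
  -- so it is invariant under the normalizer of `N`
  by_contra hne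
  have hlt : N < S := lt_of_le_of_ne hNS fun h => hne (inf_eq_left.1 h)
  obtain ⟨g, hg, hgN⟩ := SetLike.exists_of_lt (Fusion.lt_normalizerIn hS hlt)
  refine hgN ⟨hg.1, Subgroup.mem_normalizer_fintype fun e he => ?_⟩
  have hmem : ∀ z : Ω, z ∈ N → g * z * g⁻¹ ∈ N := fun z hz =>
    (Subgroup.mem_normalizer_iff.1 hg.2 z).1 hz
  have hmem' : ∀ z : Ω, z ∈ N → g⁻¹ * z * g ∈ N := fun z hz => by
    refine (Subgroup.mem_normalizer_iff.1 hg.2 _).2 ?_
    simpa [mul_assoc] using hz
  refine (hchar ⟨_, hmem e (hEN he)⟩).2 fun z hz => ?_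
  have hz' : ∀ n : N, ⁅(⟨_, hmem' z z.2⟩ : N), n⁆ ∈ Subgroup.center N := by
    intro n
    refine Subgroup.mem_center_iff.2 fun m => Subtype.ext ?_
    have h1 := congrArg (fun w : N => g⁻¹ * (w : Ω) * g)
      (Subgroup.mem_center_iff.1 (hz ⟨_, hmem n n.2⟩) ⟨_, hmem m m.2⟩)
    simp only [commutatorElement_def, Subgroup.coe_mul, Subgroup.coe_inv, mul_inv_rev,
      inv_inv, mul_assoc, inv_mul_cancel_left, mul_inv_cancel_left] at h1 ⊢
    simpa [mul_assoc] using h1
  have h2 := (hchar ⟨e, hEN he⟩).1 he _ hz'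
  have h3 := (Commute.conj_iff g).2 h2
  simpa [mul_assoc] using h3

end CfsgLib.FusionTwoGenEssential
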