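import Cfsg.Agent.FusionTwoGenEssential.Fusion
import Cfsg.Agent.FusionEssential.OrderCube
import Cfsg.Agent.FusionRankThree.Main

/-!
# Without pearls every essential subgroup is normal, in sectional rank three for `p ≥ 5`
-/

set_option autoImplicit false
set_option linter.style.haveILetI false

namespace CfsgLib.FusionTwoGenEssential

open Cfsg Cfsg.FusionSystem CfsgLib.Fusion CfsgLib.FusionEssential

variable {Ω : Type*} [Group Ω] {S : Subgroup Ω} [Finite S] {p : ℕ} [hp : Fact p.Prime]
  {F : FusionSystem S}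

/-- An essential subgroup is elementary of order `p²`, extraspecial of order `p³` and exponent
`p`, or normal in `S`. -/
theorem pearl_or_normal (hp5 : 5 ≤ p) (hS : IsPGroup p S) (hr : SectionalPRankLE p 3 S)
    (hF : F.IsSaturated p) {E : Subgroup Ω} (hE : F.IsEssential p E) :
    ((IsElementaryAbelian p E ∧ Nat.card E = p ^ 2) ∨
      (IsExtraspecial p ↥E ∧ Nat.card E = p ^ 3 ∧ ∀ x ∈ E, x ^ p = 1)) ∨
      S ≤ Subgroup.normalizer (E : Set Ω) := by
  have hES := hE.1.1
  haveI := finite_of_le hES
  have hEp : IsPGroup p E := hS.to_le hES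
  have hrk := FusionTwoEssentials.Rank3.of_sectional hr
  have hle := FusionTwoEssentials.frattini_index_le hS hrk hES
  obtain ⟨k, hk⟩ := hEp.index (frattini E)
  have hk3 : k ≤ 3 := (Nat.pow_le_pow_iff_right hp.out.one_lt).1 (hk ▸ hle)
  rcases (show k ≤ 1 ∨ k = 2 ∨ k = 3 by omega) with hk1 | rfl | rfl
  · exfalso
    refine not_isCyclic_of_essential hE ?_
    have hcyc : IsCyclic (E ⧸ frattini E) := by
      rcases Nat.le_one_iff_eq_zero_or_eq_one.1 hk1 with rfl | rfl
      · haveI : Subsingleton (E ⧸ frattini E) := (Nat.card_eq_one_iff_unique.1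
          (by rw [← Subgroup.index_eq_card, hk, pow_zero])).1
        exact isCyclic_of_subsingleton
      · exact isCyclic_of_prime_card (p := p) (by rw [← Subgroup.index_eq_card, hk, pow_one])
    obtain ⟨g, hg⟩ := IsCyclic.exists_generator (α := E ⧸ frattini E)
    obtain ⟨g, rfl⟩ := QuotientGroup.mk'_surjective _ g
    refine ⟨g, fun y => ?_⟩
    have htop : Subgroup.zpowers g = ⊤ := by
      refine Solvable.eq_top_of_sup_frattini (eq_top_iff.2 fun z _ => ?_)
      obtain ⟨m, hm⟩ := Subgroup.mem_zpowers_iff.1 (hg (QuotientGroup.mk' _ z))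
      rw [show z = g ^ m * ((g ^ m)⁻¹ * z) by rw [mul_inv_cancel_left]]
      exact Subgroup.mul_mem _ (Subgroup.mem_sup_left (Subgroup.zpow_mem_zpowers g m))
        (Subgroup.mem_sup_right (QuotientGroup.eq.1 ((map_zpow _ g m).trans hm)))
    exact htop.ge (Subgroup.mem_top y)
  · by_cases hab : IsMulCommutative ↥E
    · obtain ⟨e, -, hexp, hc, h5, -⟩ :=
        isEssential_abelian_rank_two hS hE (fun a b => hab.is_comm.comm a b) hk.le
      obtain rfl := h5 hp5
      exact Or.inl (Or.inl ⟨⟨hab, fun a ha => by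
        simpa using congrArg Subtype.val (hexp ⟨a, ha⟩)⟩, by rw [hc]⟩)
    · by_cases hbig : p ^ 3 < Nat.card E
      · exact Or.inr (le_normalizer_of_two_gen hp5 hS hrk hF hE hk hbig)
      · obtain ⟨n, hn⟩ := IsPGroup.iff_card.1 hEp
        have hn3 : n ≤ 3 := (Nat.pow_le_pow_iff_right hp.out.one_lt).1 (hn ▸ not_lt.1 hbig)
        have hcard : Nat.card E = p ^ 3 := by
          rw [hn]
          congr 1
          by_contra h3
          apply hab
          rcases (show n = 0 ∨ n = 1 ∨ n = 2 by omega) with rfl | rfl | rfl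
          · haveI : Subsingleton E := (Nat.card_eq_one_iff_unique.1 (by simpa using hn)).1
            exact ⟨⟨fun _ _ => Subsingleton.elim _ _⟩⟩
          · haveI : IsCyclic E := isCyclic_of_prime_card (p := p) (by simpa using hn)
            exact IsCyclic.isMulCommutative
          · exact IsPGroup.isMulCommutative_of_card_eq_prime_sq hn
        rcases essential_card_cube hS hE hcard with h | ⟨-, h1, h2⟩ | ⟨rfl, -⟩
        · exact absurd h.1 hab
        · exact Or.inl (Or.inr ⟨h1, hcard, h2⟩)
        · omega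
  · exact Or.inr (FusionRankThree.le_normalizer_of_rank_three hp5 hS hr hF hE hk)

end CfsgLib.FusionTwoGenEssential
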