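import Cfsg.Agent.FusionTwoGenEssential.Cyclic

/-!
# The third factor is zero or a plane; in sectional rank three the fourth is small

Commutation with `c = [a, b]` is a homomorphism `P → γ₃/γ₄`, with kernel `Φ(P)` unless `γ₃ = 1`.
-/

set_option autoImplicit false
set_option linter.style.haveILetI false

namespace CfsgLib.FusionTwoGenEssential

open scoped commutatorElement

variable {P : Type*} [Group P] [Finite P] {p : ℕ} [hp : Fact p.Prime] {A : Subgroup (MulAut P)}
  {u : MulAut P} {a b : P}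

omit [Finite P] in
/-- The three subgroups lemma: `[γ₃, P'] ≤ γ₅`. -/
theorem g3_comm_le : ⁅g3 P, commutator P⁆ ≤ g5 P := by
  set π := QuotientGroup.mk' (g5 P) with hπ
  have hbot : ∀ H : Subgroup P, H ≤ g5 P → H.map π = ⊥ := fun H hH =>
    (Subgroup.map_eq_bot_iff H).2 (hH.trans (QuotientGroup.ker_mk' _).ge)
  have key : ⁅⁅(⊤ : Subgroup P).map π, (⊤ : Subgroup P).map π⁆, (g3 P).map π⁆ = ⊥ := by
    refine Subgroup.commutator_commutator_eq_bot_of_rotate ?_ ?_
    · rw [Subgroup.commutator_comm ((⊤ : Subgroup P).map π), ← Subgroup.map_commutator,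
        ← Subgroup.map_commutator]
      exact hbot _ le_rfl
    · rw [← Subgroup.map_commutator, ← Subgroup.map_commutator]
      exact hbot _ le_rfl
  rw [← Subgroup.map_commutator, ← Subgroup.map_commutator, Subgroup.map_eq_bot_iff,
    QuotientGroup.ker_mk'] at key
  rw [Subgroup.commutator_comm, commutator_def]
  exact key

omit [Finite P] in
theorem comm_g3_mem {x y : P} (hx : x ∈ g3 P) (hy : y ∈ commutator P) : ⁅x, y⁆ ∈ g5 P :=
  g3_comm_le (Subgroup.commutator_mem_commutator hx hy)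

variable (h : Irred p A u a b) (hp5 : 5 ≤ p)
include h hp5

theorem Irred.commutator_comm_mem {x y : P} (hx : x ∈ commutator P) (hy : y ∈ commutator P) :
    ⁅x, y⁆ ∈ g5 P := by
  set c := ⁅a, b⁆ with hc
  have h1 : ∀ z ∈ commutator P, ⁅c, z⁆ ∈ g5 P := by
    intro z hz
    obtain ⟨i, hi⟩ := exists_pow_c h.closure_eq hz
    rw [show z = c ^ i * ((c ^ i)⁻¹ * z) by rw [mul_inv_cancel_left],
      FusionTwoEssentials.comm_mul_right,
      commutatorElement_eq_one_iff_commute.2 ((Commute.refl c).pow_right i), one_mul]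
    exact (inferInstance : (g5 P).Normal).conj_mem _ (comm_mem_swap (comm_g3_mem hi
      (Subgroup.commutator_mem_commutator (Subgroup.mem_top a) (Subgroup.mem_top b)))) _
  obtain ⟨i, hi⟩ := exists_pow_c h.closure_eq hx
  rw [show x = c ^ i * ((c ^ i)⁻¹ * x) by rw [mul_inv_cancel_left],
    FusionTwoEssentials.comm_mul_left]
  refine (g5 P).mul_mem ((inferInstance : (g5 P).Normal).conj_mem _ (comm_g3_mem hi hy) _) ?_
  have h2 : ∀ n : ℕ, ⁅c ^ n, y⁆ ∈ g5 P := by
    intro n
    induction n with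
    | zero => rw [pow_zero, commutatorElement_one_left]; exact one_mem _
    | succ n ih =>
      rw [pow_succ', FusionTwoEssentials.comm_mul_left]
      exact (g5 P).mul_mem ((inferInstance : (g5 P).Normal).conj_mem _ ih _) (h1 y hy)
  exact h2 i

omit hp hp5 h in
/-- Commutation with `c`, into `P/γ₄`. -/
theorem exists_phi : ∃ φ : P →* P ⧸ g4 P, ∀ x, φ x = QuotientGroup.mk' (g4 P) ⁅⁅a, b⁆, x⁆ := by
  refine ⟨MonoidHom.mk' (fun x => QuotientGroup.mk' (g4 P) ⁅⁅a, b⁆, x⁆) fun x y => ?_, fun x => rfl⟩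
  rw [FusionTwoEssentials.comm_mul_right, map_mul, map_mul, map_mul, map_inv,
    (mk_central (fun z => comm_mem_g4 (comm_mem_g3 (Subgroup.commutator_mem_commutator
      (Subgroup.mem_top a) (Subgroup.mem_top b)))) (QuotientGroup.mk' (g4 P) x)).symm.eq,
    mul_inv_cancel_right]

/-- Either `γ₃ = 1`, or commutation with `c` identifies `P/Φ(P)` with `γ₃/γ₄`. -/
theorem Irred.third : g3 P = ⊥ ∨
    ((∀ x, ⁅⁅a, b⁆, x⁆ ∈ g4 P ↔ x ∈ frattini P) ∧ (g4 P).relIndex (g3 P) = p ^ 2 ∧
      ∀ g ∈ g3 P, ∃ x, ⁅⁅a, b⁆, x⁆⁻¹ * g ∈ g4 P) := by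
  set π := QuotientGroup.mk' (g4 P) with hπ
  set c := ⁅a, b⁆ with hcdef
  have hcm : c ∈ commutator P :=
    Subgroup.commutator_mem_commutator (Subgroup.mem_top a) (Subgroup.mem_top b)
  obtain ⟨φ, hφ⟩ := exists_phi (P := P) (a := a) (b := b)
  set K := FusionTwoEssentials.commInto (g4 P) (commutator P) with hKdef
  have hle : frattini P ≤ K := fun x hx z hz =>
    g5_le (h.commutator_comm_mem hp5 (h.frattini_eq hp5 ▸ hx) hz)
  have hφK : ∀ x, φ x = 1 ↔ x ∈ K := by
    intro x
    rw [hφ, QuotientGroup.mk'_apply, QuotientGroup.eq_one_iff]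
    refine ⟨fun hx z hz => ?_, fun hx => comm_mem_swap (hx c hcm)⟩
    obtain ⟨i, hi⟩ := exists_pow_c h.closure_eq hz
    have hx' : Commute (π x) (π c) := commutatorElement_eq_one_iff_commute.1 (by
      rw [← map_commutatorElement]; exact mk_eq_one (comm_mem_swap hx))
    refine (QuotientGroup.eq_one_iff _).1 (show π ⁅x, z⁆ = 1 from ?_)
    rw [map_commutatorElement, show z = c ^ i * ((c ^ i)⁻¹ * z) by rw [mul_inv_cancel_left],
      map_mul, map_pow]
    exact commutatorElement_eq_one_iff_commute.2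
      ((hx'.pow_right i).mul_right (mk_central (fun y => comm_mem_g4 hi) _).symm)
  have himg : ∀ g ∈ g3 P, π g ∈ φ.range := by
    have hle' : g3 P ≤ φ.range.comap π := by
      refine Subgroup.commutator_le.2 fun y hy x _ => ?_
      obtain ⟨i, hi⟩ := exists_pow_c h.closure_eq hy
      rw [Subgroup.mem_comap, show y = c ^ i * ((c ^ i)⁻¹ * y) by rw [mul_inv_cancel_left],
        FusionTwoEssentials.comm_mul_left, map_mul, map_mul, map_mul,
        mk_eq_one (comm_mem_g4 hi), mul_one, map_inv, mul_inv_cancel, one_mul]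
      have hcom : Commute (π c) ⁅π c, π x⁆ := by
        rw [← map_commutatorElement]
        exact (mk_central (fun z => comm_mem_g4 (comm_mem_g3 hcm)) _).symm
      rw [map_commutatorElement, map_pow, comm_pow_left hcom, ← map_commutatorElement, ← hφ]
      exact Subgroup.pow_mem φ.range ⟨x, rfl⟩ i
    exact hle'
  rcases h.irred K hle (fun α _ x hx z hz => by
      obtain ⟨z', rfl⟩ := α.surjective z
      rw [← map_commutatorElement]
      exact char_mem α (hx z' (by simpa using char_mem α.symm hz))) with hK | hK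
  · refine Or.inr ⟨fun x => ?_, ?_, fun g hg => ?_⟩
    · rw [← hK, ← hφK, hφ, QuotientGroup.mk'_apply, QuotientGroup.eq_one_iff]
    · have hker : φ.ker = frattini P := by
        ext x
        rw [MonoidHom.mem_ker, hφK, hK]
      have hr : (g3 P).map π = φ.range := by
        refine le_antisymm ?_ ?_
        · rintro _ ⟨g, hg, rfl⟩; exact himg g hg
        · rintro _ ⟨x, rfl⟩; exact ⟨_, comm_mem_g3 hcm, (hφ x).symm⟩
      have h1 := Subgroup.relIndex_ker π (K := g3 P)
      rw [QuotientGroup.ker_mk', hr, ← Subgroup.index_ker, hker, h.index] at h1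
      exact h1
    · obtain ⟨x, hx⟩ := himg g hg
      rw [hφ] at hx
      exact ⟨x, QuotientGroup.eq.1 hx⟩
  · left
    haveI : Group.IsNilpotent P := h.isP.isNilpotent
    refine eq_bot_of_le_commutator ?_
    refine Subgroup.commutator_le.2 fun z hz x _ => ?_
    exact comm_mem_swap ((hK ▸ Subgroup.mem_top x : x ∈ K) z hz)

/-- With `γ₃ = 1` the order is at most `p³`. -/
theorem Irred.card_le (h3 : g3 P = ⊥) : Nat.card P ≤ p ^ 3 := by
  set c := ⁅a, b⁆ with hc
  have hle : frattini P ≤ Subgroup.zpowers c := by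
    intro x hx
    obtain ⟨i, hi⟩ := exists_pow_c h.closure_eq (h.frattini_eq hp5 ▸ hx)
    rw [h3, Subgroup.mem_bot, inv_mul_eq_one] at hi
    exact hi ▸ Subgroup.pow_mem _ (Subgroup.mem_zpowers c) i
  have hcp : c ^ p = 1 := by
    have h1 := h.c_pow_mem hp5
    rwa [h3, Subgroup.mem_bot] at h1
  rw [← Subgroup.card_mul_index (frattini P), h.index, pow_succ' p 2]
  refine Nat.mul_le_mul_right _ ((Subgroup.card_le_of_le hle).trans ?_)
  rw [Nat.card_zpowers]
  exact Nat.le_of_dvd hp.out.pos (orderOf_dvd_of_pow_eq_one hcp)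

/-- In sectional rank three `γ₄/γ₅` has order at most `p`, and exponent `p`. -/
theorem Irred.fourth (hrk : FusionTwoEssentials.Rank3 p P)
    (h3 : (g4 P).relIndex (g3 P) = p ^ 2)
    (himg : ∀ g ∈ g3 P, ∃ x, ⁅⁅a, b⁆, x⁆⁻¹ * g ∈ g4 P) :
    (g5 P).relIndex (g4 P) ≤ p ∧ ∀ g ∈ g3 P, g ^ p ∈ g5 P := by
  set c := ⁅a, b⁆ with hcdef
  have hcm : c ∈ commutator P :=
    Subgroup.commutator_mem_commutator (Subgroup.mem_top a) (Subgroup.mem_top b)
  set π := QuotientGroup.mk' (g5 P) with hπ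
  set π4 := QuotientGroup.mk' (g4 P) with hπ4
  -- powers of `γ₃` lie in `γ₄`
  have hp4 : ∀ g ∈ g3 P, g ^ p ∈ g4 P := by
    intro g hg
    obtain ⟨x, hx⟩ := himg g hg
    refine (QuotientGroup.eq_one_iff _).1 (show π4 (g ^ p) = 1 from ?_)
    have e : π4 g = ⁅π4 c, π4 x⁆ := by
      rw [← map_commutatorElement]; exact (QuotientGroup.eq.2 hx).symm
    rw [map_pow, e, ← comm_pow_left ?_, ← map_pow, ← map_commutatorElement]
    · exact mk_eq_one (comm_mem_g4 (h.c_pow_mem hp5))
    · rw [← e]; exact (mk_central (fun y => comm_mem_g4 hg) _).symm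
  -- powers of `γ₄` lie in `γ₅`
  have hp5' : g4 P ≤ (FusionTwoEssentials.omegaZ p (⊤ : Subgroup (P ⧸ g5 P))).comap π := by
    refine Subgroup.commutator_le.2 fun g hg y _ => ?_
    have hz : ∀ w, Commute (π ⁅g, y⁆) w := mk_central fun z => comm_mem_g5 (comm_mem_g4 hg)
    refine ⟨Subgroup.mem_top _, ?_, fun w _ => (hz w).eq.symm⟩
    rw [map_commutatorElement, ← comm_pow_left ?_, ← map_pow, ← map_commutatorElement]
    · exact mk_eq_one (comm_mem_g5 (hp4 g hg))
    · rw [← map_commutatorElement]; exact (hz _).symm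
  have hpow : ∀ g ∈ g3 P, g ^ p ∈ g5 P := by
    intro g hg
    obtain ⟨x, hx⟩ := himg g hg
    obtain ⟨-, hzp, hzc⟩ := hp5' hx
    refine (QuotientGroup.eq_one_iff _).1 (show π (g ^ p) = 1 from ?_)
    rw [show g = ⁅c, x⁆ * (⁅c, x⁆⁻¹ * g) by rw [mul_inv_cancel_left], map_pow, map_mul,
      (show Commute (π ⁅c, x⁆) (π (⁅c, x⁆⁻¹ * g)) from hzc _ (Subgroup.mem_top _)).mul_pow, hzp,
      mul_one, map_commutatorElement, ← comm_pow_left ?_, ← map_pow, ← map_commutatorElement]
    · exact mk_eq_one (comm_mem_g5 (h.c_pow_mem_g4 hp5))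
    · rw [← map_commutatorElement]
      refine (commutatorElement_eq_one_iff_commute.1 ?_).symm
      rw [← map_commutatorElement]
      exact mk_eq_one (comm_g3_mem (comm_mem_g3 hcm) hcm)
  refine ⟨?_, hpow⟩
  have h1 := hrk (g5 P) (g3 P) (g5_le.trans g4_le)
    (fun x hx y hy => comm_g3_mem hx (g3_le hy)) hpow
  rw [← Subgroup.relIndex_mul_relIndex _ _ _ g5_le g4_le, h3] at h1
  have := hp.out.pos
  exact Nat.le_of_mul_le_mul_right (show (g5 P).relIndex (g4 P) * p ^ 2 ≤ p * p ^ 2 by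
    linarith [pow_succ' p 2]) (by positivity)

end CfsgLib.FusionTwoGenEssential
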